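import Groth.Agent.Lib.ModM1.ClosedImm
import Groth.Agent.Lib.ModM1.Coh
import Groth.Agent.Lib.ModM1.Pull
import Groth.Agent.Lib.ModM1.Local
import Groth.Agent.Lib.CohFound.ClosedImmPush
import Mathlib

/-!
The centre of the category of coherent modules.
-/

set_option autoImplicit false
set_option linter.style.haveILetI false
set_option backward.isDefEq.respectTransparency false
set_option backward.isDefEq.respectTransparency.types false
universe u
open CategoryTheory CategoryTheory.Limits AlgebraicGeometry Opposite TopologicalSpace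
open scoped TensorProduct

namespace CenterCoh13

open Groth.Agent Groth.Agent.M1

variable {X : Scheme.{u}}

theorem germ_ores {U V : X.Opens} (h : V ≤ U) {x : X} (hx : x ∈ V) (r : Γ(X, U)) :
    X.presheaf.germ V x hx (ores h r) = X.presheaf.germ U x (h hx) r :=
  X.presheaf.germ_res_apply (homOfLE h) x hx r

theorem mres_congr (M : X.Modules) {U V : X.Opens} (h : V ≤ U) (e : U = V) :
    Function.Bijective (mres M h) := by
  subst e
  have : ∀ m, mres M h m = m := fun m => mres_id M h m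
  exact ⟨fun a b hab => by rwa [this, this] at hab, fun b => ⟨b, this b⟩⟩

/-- The closed subscheme `V(𝔪ₓⁿ)`. -/
noncomputable def thick (x : X) (hx : IsClosed ({x} : Set X)) (n : ℕ) : X.IdealSheafData :=
  Scheme.IdealSheafData.vanishingIdeal ⟨{x}, hx⟩ ^ (n + 1)

theorem range_thick (x : X) (hx : IsClosed ({x} : Set X)) (n : ℕ) :
    Set.range (thick x hx n).subschemeι = {x} := by
  rw [Scheme.IdealSheafData.range_subschemeι, thick, Scheme.IdealSheafData.support_pow_succ,
    Scheme.IdealSheafData.coe_support_vanishingIdeal]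
  rfl

theorem germ_mem_pow (x : X) (hx : IsClosed ({x} : Set X)) (n : ℕ) (U : X.affineOpens) (y : X)
    (hy : x = y) (hxU : y ∈ U.1) (a : Γ(X, U.1)) (ha : a ∈ (thick x hx n).ideal U) :
    X.presheaf.germ U.1 y hxU a ∈ IsLocalRing.maximalIdeal (X.presheaf.stalk y) ^ (n + 1) := by
  subst hy
  have h1 : ∀ b ∈ (Scheme.IdealSheafData.vanishingIdeal ⟨{x}, hx⟩).ideal U,
      X.presheaf.germ U.1 x hxU b ∈ IsLocalRing.maximalIdeal (X.presheaf.stalk x) := by
    intro b hb
    have hsupp : x ∈ (Scheme.IdealSheafData.vanishingIdeal ⟨{x}, hx⟩).support := by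
      rw [← SetLike.mem_coe, Scheme.IdealSheafData.coe_support_vanishingIdeal]; rfl
    rw [Scheme.IdealSheafData.mem_support_iff_of_mem (U := U) hxU, Scheme.mem_zeroLocus_iff] at hsupp
    intro hu
    exact hsupp b hb ((X.mem_basicOpen b x hxU).mpr hu)
  rw [thick, Scheme.IdealSheafData.ideal_pow, Pi.pow_apply] at ha
  have := Ideal.mem_map_of_mem (X.presheaf.germ U.1 x hxU).hom ha
  rw [Ideal.map_pow] at this
  exact Ideal.pow_right_mono (Ideal.map_le_iff_le_comap.mpr h1) _ this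

theorem ker_stalkMap_le {Z : Scheme.{u}} (i : Z ⟶ X) [IsClosedImmersion i] (z : Z)
    (K : Ideal (X.presheaf.stalk (i z)))
    (hK : ∀ (U : X.affineOpens) (hxU : i z ∈ U.1) (a : Γ(X, U.1)), a ∈ i.ker.ideal U →
      X.presheaf.germ U.1 (i z) hxU a ∈ K)
    (r : X.presheaf.stalk (i z)) (hr : i.stalkMap z r = 0) : r ∈ K := by
  obtain ⟨U, hU, hxU, -⟩ := exists_isAffineOpen_mem_and_subset (x := i z) (U := ⊤) trivial
  let := TopCat.Presheaf.algebra_section_stalk X.presheaf (⟨i z, hxU⟩ : U)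
  have := hU.isLocalization_stalk ⟨i z, hxU⟩
  obtain ⟨⟨b, c₂⟩, hb⟩ := IsLocalization.surj (hU.primeIdealOf ⟨i z, hxU⟩).asIdeal.primeCompl r
  have hb' : r * X.presheaf.germ U (i z) hxU c₂.1 = X.presheaf.germ U (i z) hxU b := hb
  have hzU : z ∈ i ⁻¹ᵁ U := hxU
  let := TopCat.Presheaf.algebra_section_stalk Z.presheaf (⟨z, hzU⟩ : (i ⁻¹ᵁ U : Z.Opens))
  have := (hU.preimage i).isLocalization_stalk ⟨z, hzU⟩
  have hb0 : algebraMap Γ(Z, i ⁻¹ᵁ U) (Z.presheaf.stalk z) (i.app U b) = 0 := by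
    change Z.presheaf.germ (i ⁻¹ᵁ U) z hzU (i.app U b) = 0
    rw [← Scheme.Hom.germ_stalkMap_apply i U z hxU, ← hb', map_mul, hr, zero_mul]
  obtain ⟨d, hd⟩ := (IsLocalization.map_eq_zero_iff
    ((hU.preimage i).primeIdealOf ⟨z, hzU⟩).asIdeal.primeCompl (Z.presheaf.stalk z) _).mp hb0
  obtain ⟨c, hc⟩ := i.app_surjective U hU d.1
  have hcu : IsUnit (X.presheaf.germ U (i z) hxU c) := by
    refine isUnit_of_map_unit (i.stalkMap z).hom _ ?_
    rw [Scheme.Hom.germ_stalkMap_apply, hc]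
    exact (isUnit_germ_iff (hU.preimage i) hzU d.1).mpr d.2
  have hker : c * b ∈ i.ker.ideal ⟨U, hU⟩ := by
    rw [Scheme.Hom.ker_apply, RingHom.mem_ker, map_mul, hc]
    exact hd
  have h1 := hK ⟨U, hU⟩ hxU _ hker
  rw [map_mul, ← hb', mul_comm r, ← mul_assoc] at h1
  exact (Ideal.unit_mul_mem_iff_mem _ (hcu.mul ((isUnit_germ_iff hU hxU c₂.1).mpr c₂.2))).mp h1

variable [IsNoetherian X]
  (φ : 𝟭 (ObjectProperty.FullSubcategory (fun M : X.Modules => Coh.IsCoh M)) ⟶
    𝟭 (ObjectProperty.FullSubcategory (fun M : X.Modules => Coh.IsCoh M)))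

/-- The global function of a natural endomorphism. -/
noncomputable def rOf : Γ(X, (⊤ : X.Opens)) :=
  ((φ.app ⟨Coh.structureModule X, isCoh_structureModule X⟩).hom.app ⊤ (one ⊤))

theorem global (M : X.Modules) (hM : Coh.IsCoh M) (g : Γ(M, (⊤ : X.Opens))) :
    (φ.app ⟨M, hM⟩).hom.app ⊤ g = rOf φ • g := by
  let O : ObjectProperty.FullSubcategory (fun M : X.Modules => Coh.IsCoh M) :=
    ⟨Coh.structureModule X, isCoh_structureModule X⟩
  let f : O ⟶ (⟨M, hM⟩ : ObjectProperty.FullSubcategory (fun M : X.Modules => Coh.IsCoh M)) :=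
    ObjectProperty.homMk (secHom g)
  have h := congrArg (fun t : O ⟶ (⟨M, hM⟩ : ObjectProperty.FullSubcategory (fun M : X.Modules => Coh.IsCoh M)) => (t.hom).app ⊤ (one ⊤)) (φ.naturality f)
  simp only [Functor.id_map, Functor.id_obj] at h
  change (φ.app ⟨M, hM⟩).hom.app ⊤ ((secHom g).app ⊤ (one ⊤)) =
    (secHom g).app ⊤ ((φ.app O).hom.app ⊤ (one ⊤)) at h
  rw [secHom_app_one] at h
  rw [h, show (φ.app O).hom.app ⊤ (one ⊤) = rOf φ • (one ⊤ : Γ(Coh.structureModule X, ⊤)) from
    (mul_one (rOf φ)).symm, Scheme.Modules.Hom.app_smul, secHom_app_one]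

theorem app_eq_smul (M : X.Modules) (hM : Coh.IsCoh M) {U : X.Opens} (m : Γ(M, U)) :
    (φ.app ⟨M, hM⟩).hom.app U m = ores (le_top : U ≤ ⊤) (rOf φ) • m := by
  classical
  haveI := hM.1
  let φM : M ⟶ M := (φ.app ⟨M, hM⟩).hom
  show φM.app U m = _
  have key : ∀ (x : X) (hx : IsClosed ({x} : Set X)) (U : X.Opens) (hxU : x ∈ U) (m : Γ(M, U)),
      M.presheaf.germ U x hxU (φM.app U m) =
        M.presheaf.germ U x hxU (ores (le_top : U ≤ ⊤) (rOf φ) • m) := by
    intro x hx U hxU m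
    set d : Γ(M, U) := φM.app U m - ores (le_top : U ≤ ⊤) (rOf φ) • m with hd
    rw [← sub_eq_zero, ← map_sub, ← hd]
    suffices h : ∀ n, (M.presheaf.germ U x hxU d : M.presheaf.stalk x) ∈
        IsLocalRing.maximalIdeal (X.presheaf.stalk x) ^ (n + 1) • (⊤ : Submodule (X.presheaf.stalk x) _) by
      haveI : Module.Finite (X.presheaf.stalk x) (M.presheaf.stalk x) := finite_stalk hM.1 hM.2 x
      have hbot : (M.presheaf.germ U x hxU d : M.presheaf.stalk x) ∈
          (⨅ n : ℕ, IsLocalRing.maximalIdeal (X.presheaf.stalk x) ^ n •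
            (⊤ : Submodule (X.presheaf.stalk x) (M.presheaf.stalk x))) := by
        rw [Submodule.mem_iInf]
        intro n
        exact Submodule.smul_mono_left (Ideal.pow_le_pow_right (Nat.le_succ n)) (h n)
      rw [Ideal.iInf_pow_smul_eq_bot_of_isLocalRing _ (Ideal.IsMaximal.ne_top inferInstance)] at hbot
      exact hbot
    intro n
    let J := thick x hx n
    let i := J.subschemeι
    obtain ⟨z, hz⟩ : x ∈ Set.range i := by rw [range_thick]; rfl
    let N := (Scheme.Modules.pullback i).obj M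
    let P := (Scheme.Modules.pushforward i).obj N
    have hP : Coh.IsCoh P := CohFound.isCoh_push_closedImm i (isCoh_pullback i hM)
    let η : M ⟶ P := (Scheme.Modules.pullbackPushforwardAdjunction i).unit.app M
    have hnat := congrArg (fun t : (⟨M, hM⟩ : ObjectProperty.FullSubcategory (fun M : X.Modules => Coh.IsCoh M)) ⟶ ⟨P, hP⟩ => (t.hom).app U m)
      (φ.naturality (X := ⟨M, hM⟩) (Y := ⟨P, hP⟩) (ObjectProperty.homMk η))
    simp only [Functor.id_map, Functor.id_obj] at hnat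
    change (φ.app ⟨P, hP⟩).hom.app U (η.app U m) = η.app U (φM.app U m) at hnat
    have hpre : i ⁻¹ᵁ (⊤ : X.Opens) = i ⁻¹ᵁ U := by
      refine le_antisymm (fun w _ => ?_) le_top
      have : i w ∈ ({x} : Set X) := range_thick x hx n ▸ Set.mem_range_self w
      show i w ∈ U
      rw [Set.mem_singleton_iff.mp this]
      exact hxU
    obtain ⟨g, hg⟩ : ∃ g : Γ(P, (⊤ : X.Opens)), mres P (le_top : U ≤ ⊤) g = η.app U m :=
      (mres_congr N (U := i ⁻¹ᵁ (⊤ : X.Opens)) (V := i ⁻¹ᵁ U)
        (show i ⁻¹ᵁ U ≤ i ⁻¹ᵁ (⊤ : X.Opens) from le_top) hpre).2 (η.app U m)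
    have hzero : η.app U d = 0 := by
      let φP : P ⟶ P := (φ.app ⟨P, hP⟩).hom
      have hgl : φP.app ⊤ g = rOf φ • g := global φ P hP g
      rw [hd, map_sub, ← hnat, Scheme.Modules.Hom.app_smul, ← hg]
      change φP.app U _ - _ = _
      rw [app_mres, hgl, mres_smul, sub_self]
    have hzU : i z ∈ U := hz ▸ hxU
    have h0 : M2.stalkUnit i z M (M.presheaf.germ U (i z) hzU d) = 0 := by
      show TopCat.Presheaf.stalkPushforward AddCommGrpCat.{u} i.base N.presheaf z
        ((TopCat.Presheaf.stalkFunctor AddCommGrpCat.{u} (i z)).map ((Scheme.Modules.toPresheaf X).map η)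
          (M.presheaf.germ U (i z) hzU d)) = 0
      erw [TopCat.Presheaf.stalkFunctor_map_germ_apply]
      exact (congrArg _ ((congrArg _ hzero).trans (map_zero _))).trans (map_zero _)
    have gen : ∀ (w w' : X) (hw : w ∈ U) (hw' : w' ∈ U), w = w' →
        (M.presheaf.germ U w hw d : M.presheaf.stalk w) ∈
          IsLocalRing.maximalIdeal (X.presheaf.stalk w) ^ (n + 1) • (⊤ : Submodule (X.presheaf.stalk w) _) →
        (M.presheaf.germ U w' hw' d : M.presheaf.stalk w') ∈
          IsLocalRing.maximalIdeal (X.presheaf.stalk w') ^ (n + 1) • (⊤ : Submodule (X.presheaf.stalk w') _) := by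
      rintro w _ hw hw' rfl h; exact h
    refine gen (i z) x hzU hxU hz ?_
    let R := X.presheaf.stalk (i z)
    letI : Algebra R (J.subscheme.presheaf.stalk z) := (i.stalkMap z).hom.toAlgebra
    have h1 : (1 : J.subscheme.presheaf.stalk z) ⊗ₜ[R]
        (M.presheaf.germ U (i z) hzU d : M.presheaf.stalk (i z)) = 0 := by
      apply (M2.pullStalkEquiv i z M).injective
      rw [map_zero]
      exact (LinearMap.liftBaseChange_one_tmul _ (M2.stalkUnit i z M) _).trans h0
    have hle : RingHom.ker (algebraMap R (J.subscheme.presheaf.stalk z)) ≤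
        IsLocalRing.maximalIdeal R ^ (n + 1) := fun r hr => by
      refine ker_stalkMap_le i z _ (fun U' hxU' a ha => ?_) r hr
      refine germ_mem_pow x hx n U' (i z) hz.symm hxU' a ?_
      rwa [Scheme.IdealSheafData.ker_subschemeι] at ha
    let q : (J.subscheme.presheaf.stalk z) →ₗ[R] R ⧸ (IsLocalRing.maximalIdeal R ^ (n + 1)) :=
      ((Ideal.Quotient.factorₐ R hle).comp
        (Ideal.quotientKerAlgEquivOfSurjective (f := Algebra.ofId R (J.subscheme.presheaf.stalk z))
          (i.stalkMap_surjective z)).symm.toAlgHom).toLinearMap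
    have hq1 : q 1 = 1 := map_one ((Ideal.Quotient.factorₐ R hle).comp
        (Ideal.quotientKerAlgEquivOfSurjective (f := Algebra.ofId R (J.subscheme.presheaf.stalk z))
          (i.stalkMap_surjective z)).symm.toAlgHom)
    have h2 := congrArg (TensorProduct.map q (LinearMap.id (M := M.presheaf.stalk (i z)))) h1
    rw [TensorProduct.map_tmul, hq1, map_zero, LinearMap.id_apply] at h2
    have h3 := congrArg (TensorProduct.quotTensorEquivQuotSMul (M.presheaf.stalk (i z))
      (IsLocalRing.maximalIdeal R ^ (n + 1))) h2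
    rw [map_zero, ← map_one (Ideal.Quotient.mk (IsLocalRing.maximalIdeal R ^ (n + 1))), TensorProduct.quotTensorEquivQuotSMul_mk_tmul, one_smul] at h3
    simpa [Submodule.Quotient.mk_eq_zero] using h3
  refine M1.section_ext _ _ fun y hy => ?_
  obtain ⟨x, hxy, hx⟩ : ∃ x : X, y ⤳ x ∧ IsClosed ({x} : Set X) := by
    obtain ⟨x, hx, hc⟩ := (isClosed_closure (s := ({y} : Set X))).exists_closed_singleton ⟨y, subset_closure rfl⟩
    exact ⟨x, specializes_iff_mem_closure.mpr hx, hc⟩
  obtain ⟨V, hV, hxV, -⟩ := exists_isAffineOpen_mem_and_subset (x := x) (U := ⊤) trivial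
  have hyV : y ∈ V := hxy.mem_open V.2 hxV
  obtain ⟨c, m₀, hc, hm₀⟩ := exists_germ_smul_eq M hV hyV (M.presheaf.germ U y hy m)
  have hV' : M.presheaf.germ V y hyV (φM.app V m₀) =
      M.presheaf.germ V y hyV (ores (le_top : V ≤ ⊤) (rOf φ) • m₀) := by
    have h := congrArg (M.presheaf.stalkSpecializes hxy) (key x hx V hxV m₀)
    rwa [TopCat.Presheaf.germ_stalkSpecializes_apply, TopCat.Presheaf.germ_stalkSpecializes_apply] at h
  obtain ⟨W, hyW, i₁, i₂, hW⟩ : ∃ (W : X.Opens) (_ : y ∈ W) (i₁ : W ≤ V) (i₂ : W ≤ U),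
      mres M i₂ (ores le_rfl (1 : Γ(X, U)) • m) = mres M i₂ m := ⟨V ⊓ U, ⟨hyV, hy⟩, inf_le_left, inf_le_right, by simp⟩
  obtain ⟨W', hyW', j₁, j₂, he⟩ := M.presheaf.germ_eq y hyW hyW
    (ores i₁ c • mres M i₂ m) (mres M i₁ m₀) (by rw [germ_smul, germ_mres, germ_mres, germ_ores]; exact hm₀)
  replace he : mres M j₁.le (ores i₁ c • mres M i₂ m) = mres M j₂.le (mres M i₁ m₀) := he
  have h2 := congrArg (φM.app W') he
  rw [mres_smul, Scheme.Modules.Hom.app_smul, app_mres, app_mres, app_mres, app_mres] at h2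
  replace h2 := congrArg (M.presheaf.germ W' y hyW') h2
  simp only [germ_smul, germ_mres, germ_ores] at h2
  rw [hV', germ_smul, germ_ores, ← hm₀, smul_comm] at h2
  rw [germ_smul, germ_ores]
  exact hc.smul_left_cancel.mp h2

theorem main :
    ∃! r : Coh.Γtop X, ∀ M : ObjectProperty.FullSubcategory (fun M : X.Modules => Coh.IsCoh M),
      (SheafOfModules.toSheaf X.ringCatSheaf).map (φ.app M).hom = Coh.smulAb M.obj r := by
  refine ⟨rOf φ, fun M => ?_, fun r hr => ?_⟩
  · ext U m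
    exact app_eq_smul φ M.obj M.property (U := U.unop) m
  · have h := hr ⟨Coh.structureModule X, isCoh_structureModule X⟩
    have h2 := ConcreteCategory.congr_hom
      (congrArg (fun t : Coh.toAb (Coh.structureModule X) ⟶ Coh.toAb (Coh.structureModule X) =>
        t.hom.app (op (⊤ : X.Opens))) h) (one ⊤)
    have h3 : (φ.app ⟨Coh.structureModule X, isCoh_structureModule X⟩).hom.app ⊤ (one ⊤) =
        ores (le_top : (⊤ : X.Opens) ≤ ⊤) (rOf φ) • (one ⊤ : Γ(Coh.structureModule X, ⊤)) :=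
      app_eq_smul φ _ _ _
    have h4 : ores (le_top : (⊤ : X.Opens) ≤ ⊤) r • (one ⊤ : Γ(Coh.structureModule X, ⊤)) =
        ores (le_top : (⊤ : X.Opens) ≤ ⊤) (rOf φ) • (one ⊤ : Γ(Coh.structureModule X, ⊤)) :=
      h2.symm.trans h3
    have h5 : ores (le_top : (⊤ : X.Opens) ≤ ⊤) r * 1 = ores (le_top : (⊤ : X.Opens) ≤ ⊤) (rOf φ) * 1 := h4
    simpa [ores_id] using h5

end CenterCoh13
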